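import Mathlib
import Cfsg.Prelude.Def_SporadicCombinatorics

/-! The hexacode over an arbitrary field with four elements, transferred to a model on `Fin 4`
with bitwise addition and a multiplication table, for enumeration. -/

set_option autoImplicit false

namespace Cfsg.Agent.Lib.SmallCodes

def addM (a b : Fin 4) : Fin 4 := ⟨(a.val ^^^ b.val) % 4, Nat.mod_lt _ (by decide)⟩

def mulM (a b : Fin 4) : Fin 4 :=
  ![![0, 0, 0, 0], ![0, 1, 2, 3], ![0, 2, 3, 1], ![0, 3, 1, 2]] a b

/-- Systematic form of the hexacode in the model. -/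
def word (a : Fin 4 × Fin 4 × Fin 4) : Fin 6 → Fin 4 :=
  ![a.1, a.2.1, a.2.2,
    addM (addM a.1 a.2.1) a.2.2,
    addM (addM (mulM 3 a.1) (mulM 2 a.2.1)) a.2.2,
    addM (addM (mulM 2 a.1) (mulM 3 a.2.1)) a.2.2]

/-- Membership test in the model hexacode. -/
def memM (y : Fin 6 → Fin 4) : Bool :=
  y 3 == addM (addM (y 0) (y 1)) (y 2) &&
  y 4 == addM (addM (mulM 3 (y 0)) (mulM 2 (y 1))) (y 2) &&
  y 5 == addM (addM (mulM 2 (y 0)) (mulM 3 (y 1))) (y 2)

variable {F : Type*} [Field F]

/-- The element of the field named by a model element. -/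
def E (ω : F) : Fin 4 → F := ![0, 1, ω, ω ^ 2]

variable [Fintype F] {ω : F}

theorem two_eq_zero (hF : Fintype.card F = 4) : (2 : F) = 0 := by
  have h4 : ((4 : ℕ) : F) = 0 := by rw [← hF]; exact Nat.cast_card_eq_zero F
  have : (2 : F) * 2 = 0 := by rw [← h4]; norm_num
  exact (mul_self_eq_zero).1 this

variable (hF : Fintype.card F = 4) (hω : ω ^ 2 + ω + 1 = 0)
include hF hω

theorem sq_eq : ω ^ 2 = ω + 1 := by
  linear_combination hω - (ω + 1) * two_eq_zero hF

theorem E_add (a b : Fin 4) : E ω a + E ω b = E ω (addM a b) := by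
  have h2 := two_eq_zero (F := F) hF
  have hs := sq_eq hF hω
  fin_cases a <;> fin_cases b <;> simp [E, addM] <;>
    first
      | linear_combination h2 | linear_combination ω * h2 | linear_combination ω ^ 2 * h2
      | linear_combination hs | linear_combination -hs
      | linear_combination hs + ω * h2 | linear_combination hs + h2

theorem E_injective : Function.Injective (E ω) := by
  have h2 := two_eq_zero (F := F) hF
  have h0 : ω ≠ 0 := by rintro rfl; simp at hω
  have hz : ∀ c : Fin 4, E ω c = 0 → c = 0 := by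
    intro c hc
    fin_cases c <;> simp [E, h0] at hc ⊢
  intro a b hab
  refine (by decide : ∀ a b : Fin 4, addM a b = 0 → a = b) a b (hz _ ?_)
  rw [← E_add hF hω, hab]
  linear_combination (E ω b) * h2

theorem E_bijective : Function.Bijective (E ω) :=
  (Fintype.bijective_iff_injective_and_card _).2 ⟨E_injective hF hω, by simp [hF]⟩

omit [Fintype F] hF in
theorem E_mul (a b : Fin 4) : E ω a * E ω b = E ω (mulM a b) := by
  have h3 : ω ^ 3 = 1 := by linear_combination (ω - 1) * hω
  fin_cases a <;> fin_cases b <;> simp [E, mulM] <;>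
    first
      | ring1 | linear_combination h3 | linear_combination ω * h3

theorem mem_hexacode_iff (x : Fin 6 → F) :
    x ∈ Cfsg.hexacode F ω ↔ ∃ a, x = E ω ∘ word a := by
  have hb := E_bijective hF hω
  have hw : ∀ a b c : Fin 4, ∀ i, E ω (word (a, b, c) i) =
      E ω a * E ω (word (1, 0, 0) i) + E ω b * E ω (word (0, 1, 0) i)
        + E ω c * E ω (word (0, 0, 1) i) := by
    intro a b c i
    rw [E_mul hω, E_mul hω, E_mul hω, E_add hF hω, E_add hF hω]
    exact congrArg _ ((by decide : ∀ a b c : Fin 4, ∀ i, word (a, b, c) i =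
      addM (addM (mulM a (word (1, 0, 0) i)) (mulM b (word (0, 1, 0) i)))
        (mulM c (word (0, 0, 1) i))) a b c i)
  constructor
  · intro hx
    let S : Submodule F (Fin 6 → F) :=
      Submodule.span F {E ω ∘ word (1, 0, 0), E ω ∘ word (0, 1, 0), E ω ∘ word (0, 0, 1)}
    have hsub : Cfsg.hexacode F ω ≤ S := by
      refine Submodule.span_le.2 ?_
      intro y hy
      rcases hy with rfl | rfl | rfl
      · refine Submodule.mem_span_triple.2 ⟨E ω 2, E ω 3, E ω 3, ?_⟩
        funext i
        have := (hw 2 3 3 i).symm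
        simp only [Pi.add_apply, Pi.smul_apply, Function.comp, smul_eq_mul]
        rw [this]
        fin_cases i <;> rfl
      · refine Submodule.mem_span_triple.2 ⟨E ω 3, E ω 2, E ω 2, ?_⟩
        funext i
        have := (hw 3 2 2 i).symm
        simp only [Pi.add_apply, Pi.smul_apply, Function.comp, smul_eq_mul]
        rw [this]
        fin_cases i <;> rfl
      · refine Submodule.mem_span_triple.2 ⟨E ω 3, E ω 2, E ω 3, ?_⟩
        funext i
        have := (hw 3 2 3 i).symm
        simp only [Pi.add_apply, Pi.smul_apply, Function.comp, smul_eq_mul]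
        rw [this]
        fin_cases i <;> rfl
    obtain ⟨p, q, r, h⟩ := Submodule.mem_span_triple.1 (hsub hx)
    obtain ⟨a, rfl⟩ := hb.2 p
    obtain ⟨b, rfl⟩ := hb.2 q
    obtain ⟨c, rfl⟩ := hb.2 r
    refine ⟨(a, b, c), ?_⟩
    funext i
    rw [← h]
    simp [hw a b c i]
  · rintro ⟨⟨a, b, c⟩, rfl⟩
    have key : ∀ p q r : Fin 4, E ω p • (![ω, ω ^ 2, ω ^ 2, ω, ω ^ 2, ω] : Fin 6 → F)
        + E ω q • ![ω ^ 2, ω, ω, ω ^ 2, ω ^ 2, ω]
        + E ω r • ![ω ^ 2, ω, ω ^ 2, ω, ω, ω ^ 2] =
        fun i => E ω (addM (addM (mulM p (word (2, 3, 3) i)) (mulM q (word (3, 2, 2) i)))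
          (mulM r (word (3, 2, 3) i))) := by
      intro p q r
      funext i
      rw [← E_add hF hω, ← E_add hF hω, ← E_mul hω, ← E_mul hω, ← E_mul hω]
      fin_cases i <;> rfl
    have hsolve : ∀ a b c : Fin 4, ∃ p q r : Fin 4, ∀ i, word (a, b, c) i =
        addM (addM (mulM p (word (2, 3, 3) i)) (mulM q (word (3, 2, 2) i)))
          (mulM r (word (3, 2, 3) i)) := by decide +kernel
    obtain ⟨p, q, r, h⟩ := hsolve a b c
    have : (E ω ∘ word (a, b, c)) = E ω p • (![ω, ω ^ 2, ω ^ 2, ω, ω ^ 2, ω] : Fin 6 → F)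
        + E ω q • ![ω ^ 2, ω, ω, ω ^ 2, ω ^ 2, ω]
        + E ω r • ![ω ^ 2, ω, ω ^ 2, ω, ω, ω ^ 2] := by
      rw [key]; funext i; exact congrArg _ (h i)
    rw [this]
    exact Submodule.mem_span_triple.2 ⟨_, _, _, rfl⟩

theorem mem_hexacode_comp_iff (y : Fin 6 → Fin 4) :
    E ω ∘ y ∈ Cfsg.hexacode F ω ↔ memM y = true := by
  rw [mem_hexacode_iff hF hω]
  constructor
  · rintro ⟨a, ha⟩
    have hy : y = word a := funext fun i => E_injective hF hω (congrFun ha i)
    subst hy
    obtain ⟨a, b, c⟩ := a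
    exact (by decide +kernel : ∀ a b c : Fin 4, memM (word (a, b, c)) = true) a b c
  · intro h
    refine ⟨(y 0, y 1, y 2), ?_⟩
    simp only [memM, Bool.and_eq_true, beq_iff_eq] at h
    funext i
    simp only [Function.comp]
    refine congrArg _ ?_
    fin_cases i <;> simp [word, h]

end Cfsg.Agent.Lib.SmallCodes
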